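import Groth.Agent.PerfPush.Main
import Groth.Agent.DQCoh.RelTensor
import Groth.Agent.DerPerf.Tensor
import Groth.Agent.RHomCx.Local
import Groth.Agent.ClSubLib.Basic
import Groth.Agent.SchDense.Unit

/-!
# `Rf_*(E ⊗^L K)` is perfect for bounded flat complexes with proper support, or perfect kernels
-/

set_option autoImplicit false
set_option backward.isDefEq.respectTransparency false
set_option backward.isDefEq.respectTransparency.types false
set_option linter.style.haveILetI false

universe u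

open CategoryTheory Limits Pretriangulated AlgebraicGeometry HomologicalComplex ZeroObject
open Groth.Agent.DQCoh (cxDatum σGE σι σSeq σSeq_shortExact isIso_σι_f isZero_σGE_X isZero_σQuot)

attribute [local instance] HasDerivedCategory.standard

namespace Groth.Agent.FMPerf

variable {X S : Scheme.{u}} (f : X ⟶ S) [DCoh.HasRpush f] (P : CochainComplex X.Modules ℤ)

/-- `Rf_*(P ⊗ C)` is perfect -/
def PF (C : CochainComplex X.Modules ℤ) : Prop :=
  DCoh.IsPerfect ((DCoh.Rpush f).obj (DerivedCategory.Q.obj ((cxDatum P).Φ.obj C)))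

variable {f} {P}

lemma pf_of_iso {C C' : CochainComplex X.Modules ℤ} (e : C ≅ C') (h : PF f P C) : PF f P C' :=
  DQCoh.perfect_of_iso ((DCoh.Rpush f).mapIso (DerivedCategory.Q.mapIso ((cxDatum P).Φ.mapIso e))) h

lemma perfect_rpush_isZero {Z : DCoh.D X} (hZ : IsZero Z) : DCoh.IsPerfect ((DCoh.Rpush f).obj Z) := by
  haveI := DerPush.isRightAdjoint_rpush f
  haveI : PreservesLimitsOfSize.{0, 0} (DCoh.Rpush f) := inferInstance
  haveI : (DCoh.Rpush f).Additive := Functor.additive_of_preserves_binary_products _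
  exact (PerfGen.perfT_zero (T := Set.univ) ((DCoh.Rpush f).map_isZero hZ)).1

lemma pf_of_isZero {C : CochainComplex X.Modules ℤ} (h : IsZero C) : PF f P C :=
  perfect_rpush_isZero (DerivedCategory.Q.map_isZero ((cxDatum P).Φ.map_isZero h))

lemma perfect_rpush_shift_one (A : DCoh.D X) :
    DCoh.IsPerfect ((DCoh.Rpush f).obj A) ↔ DCoh.IsPerfect ((DCoh.Rpush f).obj (A⟦(1 : ℤ)⟧)) := by
  obtain ⟨c, hT⟩ := DerPush.exists_rpush_triangle f _ _ _ (rot_of_distTriang _ (contractible_distinguished A))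
  have h0 : DCoh.IsPerfect ((DCoh.Rpush f).obj (0 : DCoh.D X)) := perfect_rpush_isZero (isZero_zero _)
  exact ⟨fun h => DQCoh.perfect_obj₃ _ hT h h0, fun h => DQCoh.perfect_obj₁ _ hT h0 h⟩

lemma perfect_rpush_shift {A : DCoh.D X} (h : DCoh.IsPerfect ((DCoh.Rpush f).obj A)) (n : ℤ) :
    DCoh.IsPerfect ((DCoh.Rpush f).obj (A⟦n⟧)) := by
  induction n using Int.induction_on with
  | zero => exact DQCoh.perfect_of_iso ((DCoh.Rpush f).mapIso ((shiftFunctorZero (DCoh.D X) ℤ).app A).symm) h
  | succ k ih =>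
    exact DQCoh.perfect_of_iso ((DCoh.Rpush f).mapIso
      ((shiftFunctorAdd' (DCoh.D X) (k : ℤ) 1 ((k : ℤ) + 1) rfl).app A).symm) ((perfect_rpush_shift_one _).1 ih)
  | pred k ih =>
    refine (perfect_rpush_shift_one _).2 (DQCoh.perfect_of_iso ((DCoh.Rpush f).mapIso ?_) ih)
    exact (shiftFunctorAdd' (DCoh.D X) (-(k : ℤ) - 1) 1 (-(k : ℤ)) (by lia)).app A

lemma pf_of_split (Sq : ShortComplex (CochainComplex X.Modules ℤ))
    (σ : ∀ n, (Sq.map (eval X.Modules (ComplexShape.up ℤ) n)).Splitting) (h₁ : PF f P Sq.X₁)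
    (h₃ : PF f P Sq.X₃) : PF f P Sq.X₂ := by
  obtain ⟨c, hT⟩ := DerPush.exists_rpush_triangle f _ _ _
    (DerivedCategory.triangleOfSES_distinguished ((cxDatum P).shortExact Sq σ))
  exact DQCoh.perfect_obj₂ _ hT h₁ h₃

/-- complexes concentrated in one degree -/
lemma pf_single (hP : DCoh.IsKFlat P) (G : X.Modules) [DCoh.HasLTensorMod G]
    (h : PerfPush.PushPerf f G (DerivedCategory.Q.obj P)) (a : ℤ) :
    PF f P ((HomologicalComplex.single X.Modules (ComplexShape.up ℤ) a).obj G) := by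
  have h1 : DCoh.IsPerfect ((DCoh.Rpush f).obj (DerivedCategory.Q.obj ((KFlat.tR G).obj P))) :=
    DQCoh.perfect_of_iso ((DCoh.Rpush f).mapIso (KFlat.lTensorModIso G hP)) h
  have h0 : PF f P ((HomologicalComplex.single X.Modules (ComplexShape.up ℤ) 0).obj G) :=
    DQCoh.perfect_of_iso ((DCoh.Rpush f).mapIso
      (DerivedCategory.Q.mapIso (KFlat.tensSingleIso (KFlat.schB X) P G))) h1
  obtain ⟨e⟩ := (cxDatum P).shift ((HomologicalComplex.single X.Modules (ComplexShape.up ℤ) 0).obj G) (-a)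
  exact DQCoh.perfect_of_iso ((DCoh.Rpush f).mapIso (((DerivedCategory.Q.commShiftIso (-a)).app _).symm ≪≫
    DerivedCategory.Q.mapIso e.symm ≪≫ DerivedCategory.Q.mapIso ((cxDatum P).Φ.mapIso
      (((CochainComplex.singleFunctors X.Modules).shiftIso (-a) a 0 (by lia)).app G))))
    (perfect_rpush_shift h0 (-a))

lemma pf_of_bounded : ∀ (k : ℕ) (a : ℤ) (E : CochainComplex X.Modules ℤ),
    DCoh.VanishesOutside E a (a + k - 1) →
      (∀ i a', PF f P ((HomologicalComplex.single X.Modules (ComplexShape.up ℤ) a').obj (E.X i))) → PF f P E := by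
  intro k
  induction k with
  | zero =>
    intro a E hE _
    exact pf_of_isZero ((IsZero.iff_id_eq_zero _).2 (HomologicalComplex.Hom.ext
      (funext fun i => (hE i (by lia)).eq_of_src _ _)))
  | succ k ih =>
    intro a E hE ht
    have hmod : ∀ {F F' : X.Modules} (_ : F ≅ F'),
        (∀ a', PF f P ((HomologicalComplex.single X.Modules (ComplexShape.up ℤ) a').obj F)) →
        ∀ a', PF f P ((HomologicalComplex.single X.Modules (ComplexShape.up ℤ) a').obj F') := fun e h a' =>
      pf_of_iso ((HomologicalComplex.single X.Modules (ComplexShape.up ℤ) a').mapIso e) (h a')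
    have h1 : PF f P (σGE E (a + 1)) := by
      refine ih (a + 1) _ (fun i hi => ?_) fun i a' => ?_
      · by_cases h : a + 1 ≤ i
        · exact IsZero.of_mono ((σι E (a + 1)).f i) (hE i (by lia))
        · exact isZero_σGE_X E (a + 1) i (not_le.1 h)
      · by_cases h : a + 1 ≤ i
        · haveI := isIso_σι_f E (a + 1) i h
          exact hmod (asIso ((σι E (a + 1)).f i)).symm (ht i) a'
        · exact pf_of_isZero ((HomologicalComplex.single X.Modules (ComplexShape.up ℤ) a').map_isZero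
            (isZero_σGE_X E (a + 1) i (not_le.1 h)))
    let Sq := σSeq E (a + 1)
    have hS := σSeq_shortExact E (a + 1)
    have σ : ∀ n, (Sq.map (eval X.Modules (ComplexShape.up ℤ) n)).Splitting := fun n =>
      if h : a + 1 ≤ n then
        ShortComplex.Splitting.ofIsIsoOfIsZero _ (isIso_σι_f E (a + 1) n h) (isZero_σQuot E (a + 1) n h)
      else
        ShortComplex.Splitting.ofIsZeroOfIsIso _ (isZero_σGE_X E (a + 1) n (not_le.1 h))
          (((hS.map_of_exact (eval X.Modules (ComplexShape.up ℤ) n))).isIso_g_iff.2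
            (isZero_σGE_X E (a + 1) n (not_le.1 h)))
    have hQz : ∀ i, i ≠ a → IsZero (Sq.X₃.X i) := fun i hi => by
      by_cases h : a + 1 ≤ i
      · exact isZero_σQuot E (a + 1) i h
      · haveI : IsIso ((Sq.map (eval X.Modules (ComplexShape.up ℤ) i)).g) :=
          ((hS.map_of_exact (eval X.Modules (ComplexShape.up ℤ) i))).isIso_g_iff.2
            (isZero_σGE_X E (a + 1) i (not_le.1 h))
        exact (hE i (by lia)).of_iso (asIso (Sq.map (eval X.Modules (ComplexShape.up ℤ) i)).g).symm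
    haveI : Sq.X₃.IsStrictlyGE a := (CochainComplex.isStrictlyGE_iff _ a).2 fun i hi => hQz i (by lia)
    haveI : Sq.X₃.IsStrictlyLE a := (CochainComplex.isStrictlyLE_iff _ a).2 fun i hi => hQz i (by lia)
    obtain ⟨N, ⟨eN⟩⟩ := CochainComplex.exists_iso_single Sq.X₃ a
    haveI : IsIso ((Sq.map (eval X.Modules (ComplexShape.up ℤ) a)).g) :=
      ((hS.map_of_exact (eval X.Modules (ComplexShape.up ℤ) a))).isIso_g_iff.2
        (isZero_σGE_X E (a + 1) a (by lia))
    have h3 : PF f P Sq.X₃ := pf_of_iso eN.symm (hmod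
      (asIso (Sq.map (eval X.Modules (ComplexShape.up ℤ) a)).g ≪≫
        (eval X.Modules (ComplexShape.up ℤ) a).mapIso eN ≪≫ singleObjXSelf (ComplexShape.up ℤ) a N) (ht a) a)
    exact pf_of_split Sq σ h1 h3

/-- **Bounded kernels**: finitely presented flat terms with proper support. -/
theorem isPerfect_rpush_of_bounded [LocallyOfFinitePresentation f] [QuasiCompact f] [QuasiSeparated f]
    (K : CochainComplex X.Modules ℤ) (a b : ℤ) (hb : DCoh.VanishesOutside K a b)
    (hfp : ∀ i, CohB1.IsFP (K.X i)) (hflat : ∀ i, FlatMod.IsFlatOver f (K.X i))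
    (hsupp : ∀ i, ClSub.IsProperOver f (CohB1.support (K.X i))) [DCoh.HasLTensorCx K] {E : DCoh.D X}
    (hE : DCoh.IsPerfect E) : DCoh.IsPerfect ((DCoh.Rpush f).obj ((DCoh.LTensorCx K).obj E)) := by
  obtain ⟨P, hP, -, ⟨e⟩⟩ := KFlat.exists_isKFlat_rep E
  have h : PF f P K := pf_of_bounded (b + 1 - a).toNat a K (fun i hi => hb i (by lia)) fun i a' => by
    haveI := KFlat.hasLTensorMod (K.X i)
    exact pf_single hP (K.X i)
      (PerfPush.pushPerf f (DQCoh.perfect_of_iso e.symm hE) (K.X i) (hfp i) (hflat i) (hsupp i)) a'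
  exact DQCoh.perfect_of_iso
    ((DCoh.Rpush f).mapIso ((KFlat.ltIso K hP).symm ≪≫ (DCoh.LTensorCx K).mapIso e)) h

/-- **Perfect kernels** along a proper flat morphism. -/
theorem isPerfect_rpush_of_perfect [IsProper f] [Flat f] [LocallyOfFinitePresentation f]
    (K : CochainComplex X.Modules ℤ) (hK : DCoh.IsPerfect (DCoh.toD X K)) [DCoh.HasLTensorCx K] {E : DCoh.D X}
    (hE : DCoh.IsPerfect E) : DCoh.IsPerfect ((DCoh.Rpush f).obj ((DCoh.LTensorCx K).obj E)) := by
  let L := (KFlat.resF X).obj K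
  haveI := KFlat.hasLTensorCx L
  obtain ⟨q⟩ := RHomCx.nonempty_LTensorCx_iso (K := L) (L := K) ((KFlat.resψ X).app K)
  have hL : DCoh.IsPerfect (DerivedCategory.Q.obj L) :=
    DQCoh.perfect_of_iso (asIso (DerivedCategory.Q.map ((KFlat.resψ X).app K))).symm hK
  have h1 := DerPerf.isPerfect_LTensor L (KFlat.isKFlat_resF K) hL E hE
  refine DQCoh.perfect_of_iso ((DCoh.Rpush f).mapIso (q.app E)) ?_
  let O := Coh.structureModule X
  haveI := KFlat.hasLTensorMod O
  have hfl : FlatMod.IsFlatOver f O := SchDense.isFlatOver_unit f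
  haveI : IsProper (𝟙 X ≫ f) := by rw [Category.id_comp]; infer_instance
  have hq : Coh.IsQCoh O := Groth.Agent.QC.isQCoh_unit X
  have hp := PerfPush.pushPerf f h1 O (SchDense.isFP_unit X) hfl
    (ClSubLib.isProperOver_of_subset f (𝟙 X) _
      (haveI := hq; QC.isClosed_support (ModDesc.isFT_of_isFP (SchDense.isFP_unit X))) (fun x _ => ⟨x, rfl⟩))
  obtain ⟨P, hP, -, ⟨e⟩⟩ := KFlat.exists_isKFlat_rep ((DCoh.LTensorCx L).obj E)
  let u : (KFlat.tR O).obj P ≅ P :=
    (NatIso.mapHomologicalComplex (DQCoh.tensUnitNat X) (ComplexShape.up ℤ)).app P ≪≫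
      (Functor.mapHomologicalComplexIdIso X.Modules (ComplexShape.up ℤ)).app P
  exact DQCoh.perfect_of_iso ((DCoh.Rpush f).mapIso ((DCoh.LTensorMod O).mapIso e.symm ≪≫
    KFlat.lTensorModIso O hP ≪≫ DerivedCategory.Q.mapIso u ≪≫ e)) hp

end Groth.Agent.FMPerf
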