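import Groth.Agent.CohProperPush.Basic
import Groth.Agent.KFlat.TorAmp
import Groth.Agent.KFlat.Pullback
import Groth.Agent.DerPerf.Local
import Groth.Agent.SupportLib.Pull
import Groth.Agent.CurveRR.TmapR

/-!
# `Lf^* M ⊗^L K` for a module `K` flat over the base of `f`
-/

set_option autoImplicit false
set_option backward.isDefEq.respectTransparency false
set_option backward.isDefEq.respectTransparency.types false
set_option linter.style.haveILetI false

universe u

open CategoryTheory Limits AlgebraicGeometry HomologicalComplex MonoidalCategory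
open scoped TensorProduct

attribute [local instance] HasDerivedCategory.standard

namespace Groth.Agent.FMPerf

/-- extending scalars and tensoring with a module flat over the base is exact -/
theorem exact_baseChange_lTensor {A B : Type u} [CommRing A] [CommRing B] [Algebra A B] (K : Type u)
    [AddCommGroup K] [Module A K] [Module B K] [IsScalarTower A B K] [Module.Flat A K]
    {N N' N'' : Type u} [AddCommGroup N] [AddCommGroup N'] [AddCommGroup N''] [Module A N] [Module A N'] [Module A N'']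
    {g : N →ₗ[A] N'} {g' : N' →ₗ[A] N''} (h : Function.Exact g g') :
    Function.Exact ((g.baseChange B).rTensor K) ((g'.baseChange B).rTensor K) := by
  have hc : ∀ (P : Type u) [AddCommGroup P] [Module A P],
      ∃ e : (B ⊗[A] P) ⊗[B] K ≃+ K ⊗[A] P, ∀ (b : B) (p : P) (k : K), e ((b ⊗ₜ p) ⊗ₜ k) = (b • k) ⊗ₜ p := fun P _ _ => by
    refine ⟨(TensorProduct.comm B (B ⊗[A] P) K).toAddEquiv.trans
      (TensorProduct.AlgebraTensorModule.cancelBaseChange A B B K P).toAddEquiv, fun b p k => ?_⟩
    simp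
  obtain ⟨e, he⟩ := hc N
  obtain ⟨e', he'⟩ := hc N'
  obtain ⟨e'', he''⟩ := hc N''
  have hnat : ∀ {P P' : Type u} [AddCommGroup P] [AddCommGroup P'] [Module A P] [Module A P'] (u : P →ₗ[A] P')
      (a : (B ⊗[A] P) ⊗[B] K ≃+ K ⊗[A] P) (a' : (B ⊗[A] P') ⊗[B] K ≃+ K ⊗[A] P'),
      (∀ (b : B) (p : P) (k : K), a ((b ⊗ₜ p) ⊗ₜ k) = (b • k) ⊗ₜ p) →
      (∀ (b : B) (p : P') (k : K), a' ((b ⊗ₜ p) ⊗ₜ k) = (b • k) ⊗ₜ p) →
      ∀ z, (u.lTensor K) (a z) = a' (((u.baseChange B).rTensor K) z) := by
    intro P P' _ _ _ _ u a a' ha ha' z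
    induction z using TensorProduct.induction_on with
    | zero => simp
    | tmul w k =>
      induction w using TensorProduct.induction_on with
      | zero => simp
      | tmul b p => simp [ha, ha']
      | add w w' hw hw' => simp only [TensorProduct.add_tmul, map_add, hw, hw']
    | add z z' hz hz' => simp only [map_add, hz, hz']
  refine (Function.Exact.iff_of_ladder_addEquiv
    (f₁₂ := ((g.baseChange B).rTensor K).toAddMonoidHom) (f₂₃ := ((g'.baseChange B).rTensor K).toAddMonoidHom)
    (g₁₂ := (g.lTensor K).toAddMonoidHom) (g₂₃ := (g'.lTensor K).toAddMonoidHom)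
    (e₁ := e) (e₂ := e') (e₃ := e'') ?_ ?_).1 (Module.Flat.lTensor_exact K h)
  · ext z; exact hnat g e e' he he' z
  · ext z; exact hnat g' e' e'' he' he'' z

variable {W X : Scheme.{u}} (f : W ⟶ X) (K : W.Modules)

/-- `N ↦ f^*N ⊗ K` -/
noncomputable abbrev pullTens : X.Modules ⥤ W.Modules := Scheme.Modules.pullback f ⋙ DCoh.tensorRightMod K

/-- stalks of `f^*N ⊗ K` -/
noncomputable def pullTensStalkIso (z : W) :
    pullTens f K ⋙ DerSch.stalkFunctor W z ≅
      DerSch.stalkFunctor X (f.base z) ⋙ ModuleCat.extendScalars.{u, u, u} (f.stalkMap z).hom ⋙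
        tensorRight ((DerSch.stalkFunctor W z).obj K) :=
  Functor.associator _ _ _ ≪≫ Functor.isoWhiskerLeft _ (KFlat.stTensorRightIso K z).symm ≪≫
    (Functor.associator _ _ _).symm ≪≫ Functor.isoWhiskerRight (KFlat.pullStalkIso f z) _ ≪≫ Functor.associator _ _ _

variable {f} {K}

theorem preservesHomology_pullTens (h : FlatMod.IsFlatOver f K) : (pullTens f K).PreservesHomology := by
  refine Functor.preservesHomology_of_map_exact _ fun S hS => ?_
  rw [ShortComplex.exact_iff_isZero_homology]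
  refine KFlat.isZero_of_stalks _ fun z => ?_
  refine IsZero.of_iso ?_ ((S.map (pullTens f K)).mapHomologyIso (DerSch.stalkFunctor W z)).symm
  rw [← ShortComplex.exact_iff_isZero_homology]
  refine (ShortComplex.exact_iff_of_iso
    (S.mapNatIso (F := pullTens f K ⋙ DerSch.stalkFunctor W z) (pullTensStalkIso f K z))).2 ?_
  let S' := S.map (DerSch.stalkFunctor X (f.base z))
  have hS' : S'.Exact := hS.map _
  rw [ShortComplex.ShortExact.moduleCat_exact_iff_function_exact] at hS' ⊢
  let A := X.presheaf.stalk (f.base z)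
  let B := W.presheaf.stalk z
  letI : Algebra A B := (f.stalkMap z).hom.toAlgebra
  let Kz : Type u := ((DerSch.stalkFunctor W z).obj K : ModuleCat.{u} B)
  letI : Module A Kz := Module.compHom Kz (f.stalkMap z).hom
  haveI : IsScalarTower A B Kz := IsScalarTower.of_algebraMap_smul fun _ _ => rfl
  haveI : Module.Flat A Kz := h z
  exact exact_baseChange_lTensor (A := A) (B := B) Kz hS'

variable (f) (K)

/-- `Lf^* M ⊗^L K` is termwise -/
theorem nonempty_lTensor_lpull [DCoh.HasLpull f] [DCoh.HasLTensorMod K] (M : DCoh.D X) :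
    ∃ P : CochainComplex X.Modules ℤ, Nonempty (DerivedCategory.Q.obj P ≅ M) ∧
      Nonempty ((DCoh.LTensorMod K).obj ((DCoh.Lpull f).obj M) ≅
        DerivedCategory.Q.obj (((pullTens f K).mapHomologicalComplex (ComplexShape.up ℤ)).obj P)) := by
  obtain ⟨P, hP, -, ⟨e⟩⟩ := KFlat.exists_isKFlat_rep M
  exact ⟨P, ⟨e⟩, ⟨(DCoh.LTensorMod K).mapIso ((DCoh.Lpull f).mapIso e.symm ≪≫ KFlat.lpullIso f hP) ≪≫
    KFlat.lTensorModIso K (KFlat.isKFlat_pullback f hP)⟩⟩

variable {f} {K}

/-- cohomology of `Lf^* M ⊗^L K` -/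
theorem nonempty_HD (h : FlatMod.IsFlatOver f K) [DCoh.HasLpull f] [DCoh.HasLTensorMod K] (M : DCoh.D X) (i : ℤ) :
    Nonempty (DCoh.HD ((DCoh.LTensorMod K).obj ((DCoh.Lpull f).obj M)) i ≅ (pullTens f K).obj (DCoh.HD M i)) := by
  obtain ⟨P, ⟨e⟩, ⟨e'⟩⟩ := nonempty_lTensor_lpull f K M
  haveI := preservesHomology_pullTens h
  exact ⟨(DerivedCategory.homologyFunctor _ i).mapIso e' ≪≫ KFlat.hdIso _ i ≪≫
    (P.sc i).mapHomologyIso (pullTens f K) ≪≫ (pullTens f K).mapIso ((KFlat.hdIso P i).symm ≪≫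
      (DerivedCategory.homologyFunctor _ i).mapIso e)⟩

end Groth.Agent.FMPerf

namespace Groth.Agent.FMPerf

variable {W X S : Scheme.{u}} {f : W ⟶ X} {K : W.Modules}

theorem support_pullTens_subset (N : X.Modules) : CohB1.support ((pullTens f K).obj N) ⊆ CohB1.support K := by
  intro z hz hs
  apply hz
  let e := (KFlat.stTensorIso ((Scheme.Modules.pullback f).obj N) K z).toLinearEquiv
  haveI : Subsingleton (K.presheaf.stalk z) := hs
  haveI : Subsingleton (↥(((Scheme.Modules.pullback f).obj N).presheaf.stalk z) ⊗[↥(W.presheaf.stalk z)] ↥(K.presheaf.stalk z)) :=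
    inferInstance
  exact e.toEquiv.subsingleton_congr.1 ‹_›

/-- **Bounded coherent transforms**: `Rq_*(Lf^* M ⊗^L K)` for coherent `K` flat along `f` with proper support along `q`. -/
theorem isCohD_transform [IsNoetherian S] (q : W ⟶ S) [LocallyOfFiniteType q] [DCoh.HasRpush q]
    [IsLocallyNoetherian X] (hK : Coh.IsCoh K) (hflat : FlatMod.IsFlatOver f K)
    (hsupp : ClSub.IsProperOver q (CohB1.support K)) [DCoh.HasLpull f] [DCoh.HasLTensorMod K]
    (M : DCoh.D X) (hM : DCoh.IsCohD M) (m n : ℤ) [M.IsGE m] [M.IsLE n] :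
    DCoh.IsCohD ((DCoh.Rpush q).obj ((DCoh.LTensorMod K).obj ((DCoh.Lpull f).obj M))) ∧
      ∃ m' n' : ℤ, DerivedCategory.IsGE ((DCoh.Rpush q).obj ((DCoh.LTensorMod K).obj ((DCoh.Lpull f).obj M))) m' ∧
        DerivedCategory.IsLE ((DCoh.Rpush q).obj ((DCoh.LTensorMod K).obj ((DCoh.Lpull f).obj M))) n' := by
  haveI : IsLocallyNoetherian W := LocallyOfFiniteType.isLocallyNoetherian q
  let E := (DCoh.LTensorMod K).obj ((DCoh.Lpull f).obj M)
  have hH : ∀ i, CohProperPush.cohProper q (DCoh.HD E i) := fun i => by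
    obtain ⟨e⟩ := nonempty_HD hflat M i
    have hN : Coh.IsCoh ((pullTens f K).obj (DCoh.HD M i)) :=
      CurveRR.isCoh_tensor' (QC.isCoh_pullback f (hM i)) hK
    haveI := CohProperPush.isWeakSerre_cohProper q
    refine (CohProperPush.cohProper q).prop_of_iso e.symm ⟨hN, ?_⟩
    haveI := hN.1
    exact ClSubLib.mono hsupp (QC.isClosed_support hN.2) (support_pullTens_subset _)
  have hge : E.IsGE m := (DerivedCategory.isGE_iff _ _).2 fun i hi => by
    obtain ⟨e⟩ := nonempty_HD hflat M i
    haveI := preservesHomology_pullTens hflat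
    exact ((pullTens f K).map_isZero (DerivedCategory.isZero_of_isGE M m i hi)).of_iso e
  have hle : E.IsLE n := (DerivedCategory.isLE_iff _ _).2 fun i hi => by
    obtain ⟨e⟩ := nonempty_HD hflat M i
    haveI := preservesHomology_pullTens hflat
    exact ((pullTens f K).map_isZero (DerivedCategory.isZero_of_isLE M n i hi)).of_iso e
  haveI := hge
  haveI := hle
  have hle' : E.IsLE (m + ((n + 1 - m).toNat : ℤ) - 1) :=
    (DerivedCategory.isLE_iff _ _).2 fun i hi => DerivedCategory.isZero_of_isLE E n i (by omega)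
  obtain ⟨b, hb⟩ := CohProperPush.exists_isLE q (n + 1 - m).toNat E m hge hle' hH
  exact ⟨CohProperPush.main q E m (fun i => (hH i).1) fun i => (hH i).2, m, b, DQPush.isGE_rpush q E m, hb⟩

end Groth.Agent.FMPerf
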