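import Groth.Agent.FMPerf.Coh
import Groth.Agent.DQCoh.RelTensor
import Groth.Agent.WayOut.Basic
import Groth.Agent.PerfGen.Open
import Groth.Agent.K0Coh.Regular
import Groth.Agent.ClSubLib.Basic

/-!
# Perfect complexes tensored with bounded coherent kernels
-/

set_option autoImplicit false
set_option backward.isDefEq.respectTransparency false
set_option backward.isDefEq.respectTransparency.types false
set_option linter.style.haveILetI false

universe u

open CategoryTheory Limits Pretriangulated AlgebraicGeometry HomologicalComplex ZeroObject TopologicalSpace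
open Groth.Agent.DQCoh (cxDatum σGE σι σSeq σSeq_shortExact isIso_σι_f isZero_σGE_X isZero_σQuot sigmaSuccIso tensUnitNat RD rdIso rC)
open Groth.Agent.WayOut (Stable)

attribute [local instance] HasDerivedCategory.standard

namespace Groth.Agent.FMPerf

section Devissage

variable {X : Scheme.{u}} {𝒢 : DCoh.D X → Prop} (M : CochainComplex X.Modules ℤ)

/-- `M ⊗ C` lies in `𝒢` -/
def TG (𝒢 : DCoh.D X → Prop) (C : CochainComplex X.Modules ℤ) : Prop :=
  𝒢 (DerivedCategory.Q.obj ((cxDatum M).Φ.obj C))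

variable {M}

lemma tg_of_iso (h𝒢 : Stable 𝒢) {C C' : CochainComplex X.Modules ℤ} (e : C ≅ C') (h : TG M 𝒢 C) : TG M 𝒢 C' :=
  h𝒢.iso (DerivedCategory.Q.mapIso ((cxDatum M).Φ.mapIso e)) h

lemma tg_of_isZero (h𝒢 : Stable 𝒢) {C : CochainComplex X.Modules ℤ} (h : IsZero C) : TG M 𝒢 C :=
  h𝒢.zero (DerivedCategory.Q.map_isZero ((cxDatum M).Φ.map_isZero h))

lemma tg_of_split (h𝒢 : Stable 𝒢) (Sq : ShortComplex (CochainComplex X.Modules ℤ))
    (σ : ∀ n, (Sq.map (eval X.Modules (ComplexShape.up ℤ) n)).Splitting) (h₁ : TG M 𝒢 Sq.X₁)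
    (h₃ : TG M 𝒢 Sq.X₃) : TG M 𝒢 Sq.X₂ :=
  h𝒢.ext _ (DerivedCategory.triangleOfSES_distinguished ((cxDatum M).shortExact Sq σ)) h₁ h₃

/-- all shifts of a module -/
def TGMod (M : CochainComplex X.Modules ℤ) (𝒢 : DCoh.D X → Prop) (F : X.Modules) : Prop :=
  ∀ a : ℤ, TG M 𝒢 ((HomologicalComplex.single X.Modules (ComplexShape.up ℤ) a).obj F)

lemma tgMod_of_iso (h𝒢 : Stable 𝒢) {F F' : X.Modules} (e : F ≅ F') (h : TGMod M 𝒢 F) : TGMod M 𝒢 F' := fun a =>
  tg_of_iso h𝒢 ((HomologicalComplex.single X.Modules (ComplexShape.up ℤ) a).mapIso e) (h a)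

lemma tgMod_of_isZero (h𝒢 : Stable 𝒢) {F : X.Modules} (h : IsZero F) : TGMod M 𝒢 F := fun a =>
  tg_of_isZero h𝒢 ((HomologicalComplex.single X.Modules (ComplexShape.up ℤ) a).map_isZero h)

lemma tgMod_unit (h𝒢 : Stable 𝒢) (hM : 𝒢 (DerivedCategory.Q.obj M)) : TGMod M 𝒢 (Coh.structureModule X) := fun a => by
  have h0 : TG M 𝒢 ((HomologicalComplex.single X.Modules (ComplexShape.up ℤ) 0).obj (Coh.structureModule X)) :=
    h𝒢.iso (DerivedCategory.Q.mapIso
      (((Functor.mapHomologicalComplexIdIso X.Modules (ComplexShape.up ℤ)).app M).symm ≪≫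
        ((NatIso.mapHomologicalComplex (tensUnitNat X) (ComplexShape.up ℤ)).app M).symm ≪≫
        KFlat.tensSingleIso (KFlat.schB X) M (Coh.structureModule X))) hM
  obtain ⟨e⟩ := (cxDatum M).shift ((HomologicalComplex.single X.Modules (ComplexShape.up ℤ) 0).obj (Coh.structureModule X)) (-a)
  exact tg_of_iso h𝒢 (((CochainComplex.singleFunctors X.Modules).shiftIso (-a) a 0 (by lia)).app (Coh.structureModule X))
    (h𝒢.iso (((DerivedCategory.Q.commShiftIso (-a)).app _).symm ≪≫ DerivedCategory.Q.mapIso e.symm) (h𝒢.shift (-a) h0))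

lemma tgMod_free (h𝒢 : Stable 𝒢) (hM : 𝒢 (DerivedCategory.Q.obj M)) : ∀ n : ℕ, TGMod M 𝒢 (FlatMod.freeMod X n) := by
  intro n
  induction n with
  | zero =>
    refine tgMod_of_isZero h𝒢 ?_
    rw [IsZero.iff_id_eq_zero]
    exact Sigma.hom_ext _ _ fun i => i.elim0
  | succ n ih =>
    refine tgMod_of_iso h𝒢 (sigmaSuccIso fun _ : Fin (n + 1) => Coh.structureModule X).symm fun a => ?_
    exact tg_of_split h𝒢 ((ShortComplex.mk (biprod.inl : Coh.structureModule X ⟶ _ ⊞ FlatMod.freeMod X n) biprod.snd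
        biprod.inl_snd).map (HomologicalComplex.single X.Modules (ComplexShape.up ℤ) a))
      (fun m => (ShortComplex.Splitting.ofHasBinaryBiproduct (Coh.structureModule X) (FlatMod.freeMod X n)).map
        (HomologicalComplex.single X.Modules (ComplexShape.up ℤ) a ⋙ eval X.Modules (ComplexShape.up ℤ) m))
      (tgMod_unit h𝒢 hM a) (ih a)

lemma tg_of_bounded (h𝒢 : Stable 𝒢) : ∀ (k : ℕ) (a : ℤ) (E : CochainComplex X.Modules ℤ),
    DCoh.VanishesOutside E a (a + k - 1) → (∀ i, TGMod M 𝒢 (E.X i)) → TG M 𝒢 E := by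
  intro k
  induction k with
  | zero =>
    intro a E hE _
    exact tg_of_isZero h𝒢 ((IsZero.iff_id_eq_zero _).2 (HomologicalComplex.Hom.ext
      (funext fun i => (hE i (by lia)).eq_of_src _ _)))
  | succ k ih =>
    intro a E hE ht
    have h1 : TG M 𝒢 (σGE E (a + 1)) := by
      refine ih (a + 1) _ (fun i hi => ?_) fun i => ?_
      · by_cases h : a + 1 ≤ i
        · exact IsZero.of_mono ((σι E (a + 1)).f i) (hE i (by lia))
        · exact isZero_σGE_X E (a + 1) i (not_le.1 h)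
      · by_cases h : a + 1 ≤ i
        · haveI := isIso_σι_f E (a + 1) i h
          exact tgMod_of_iso h𝒢 (asIso ((σι E (a + 1)).f i)).symm (ht i)
        · exact tgMod_of_isZero h𝒢 (isZero_σGE_X E (a + 1) i (not_le.1 h))
    let Sq := σSeq E (a + 1)
    have hS := σSeq_shortExact E (a + 1)
    have σ : ∀ n, (Sq.map (eval X.Modules (ComplexShape.up ℤ) n)).Splitting := fun n =>
      if h : a + 1 ≤ n then
        ShortComplex.Splitting.ofIsIsoOfIsZero _ (isIso_σι_f E (a + 1) n h) (isZero_σQuot E (a + 1) n h)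
      else
        ShortComplex.Splitting.ofIsZeroOfIsIso _ (isZero_σGE_X E (a + 1) n (not_le.1 h))
          (((hS.map_of_exact (eval X.Modules (ComplexShape.up ℤ) n))).isIso_g_iff.2
            (isZero_σGE_X E (a + 1) n (not_le.1 h)))
    have hQz : ∀ i, i ≠ a → IsZero (Sq.X₃.X i) := fun i hi => by
      by_cases h : a + 1 ≤ i
      · exact isZero_σQuot E (a + 1) i h
      · haveI : IsIso ((Sq.map (eval X.Modules (ComplexShape.up ℤ) i)).g) :=
          ((hS.map_of_exact (eval X.Modules (ComplexShape.up ℤ) i))).isIso_g_iff.2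
            (isZero_σGE_X E (a + 1) i (not_le.1 h))
        exact (hE i (by lia)).of_iso (asIso (Sq.map (eval X.Modules (ComplexShape.up ℤ) i)).g).symm
    haveI : Sq.X₃.IsStrictlyGE a := (CochainComplex.isStrictlyGE_iff _ a).2 fun i hi => hQz i (by lia)
    haveI : Sq.X₃.IsStrictlyLE a := (CochainComplex.isStrictlyLE_iff _ a).2 fun i hi => hQz i (by lia)
    obtain ⟨N, ⟨eN⟩⟩ := CochainComplex.exists_iso_single Sq.X₃ a
    haveI : IsIso ((Sq.map (eval X.Modules (ComplexShape.up ℤ) a)).g) :=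
      ((hS.map_of_exact (eval X.Modules (ComplexShape.up ℤ) a))).isIso_g_iff.2
        (isZero_σGE_X E (a + 1) a (by lia))
    have h3 : TG M 𝒢 Sq.X₃ := tg_of_iso h𝒢 eN.symm (tgMod_of_iso h𝒢
      (asIso (Sq.map (eval X.Modules (ComplexShape.up ℤ) a)).g ≪≫
        (eval X.Modules (ComplexShape.up ℤ) a).mapIso eN ≪≫ singleObjXSelf (ComplexShape.up ℤ) a N) (ht a) a)
    exact tg_of_split h𝒢 Sq σ h1 h3

end Devissage

section Global

variable {X : Scheme.{u}}

/-- bounded, coherent cohomology supported in `Z` -/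
def BC (Z : Set X) (E : DCoh.D X) : Prop :=
  WSerre.cohIn (fun M : X.Modules => Coh.IsCoh M) E ∧ (∀ i, CohB1.support (DCoh.HD E i) ⊆ Z) ∧
    ∃ l u : ℤ, ∀ i, (i < l ∨ u < i) → IsZero (DCoh.HD E i)

theorem stable_BC [IsLocallyNoetherian X] (Z : Set X) : Stable (BC Z) := by
  haveI : WSerre.IsWeakSerre (fun M : X.Modules => Coh.IsCoh M) := CohProperPush.isWeakSerre_isCoh
  have hc := WayOut.stable_cohIn (fun M : X.Modules => Coh.IsCoh M)
  refine ⟨fun {E F} e h => ⟨hc.iso e h.1, fun i => ?_, ?_⟩, fun {E} n h => ⟨hc.shift n h.1, fun i => ?_, ?_⟩,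
    fun {E} h => ⟨hc.zero h, fun i => ?_, ⟨0, 0, fun i _ => (DerivedCategory.homologyFunctor _ i).map_isZero h⟩⟩,
    fun T hT h₁ h₃ => ⟨hc.ext T hT h₁.1 h₃.1, fun i z hz => ?_, ?_⟩⟩
  · rw [← ClSubLib.support_congr ((DerivedCategory.homologyFunctor _ i).mapIso e)]
    exact h.2.1 i
  · obtain ⟨l, u, hb⟩ := h.2.2
    exact ⟨l, u, fun i hi => (hb i hi).of_iso ((DerivedCategory.homologyFunctor _ i).mapIso e).symm⟩
  · exact (ClSubLib.support_congr
      (((DerivedCategory.homologyFunctor X.Modules 0).shiftIso n i (n + i) rfl).app E)).le.trans (h.2.1 _)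
  · obtain ⟨l, u, hb⟩ := h.2.2
    exact ⟨l - n, u - n, fun i hi => (hb (n + i) (by lia)).of_iso
      (((DerivedCategory.homologyFunctor X.Modules 0).shiftIso n i (n + i) rfl).app E)⟩
  · intro z hz
    exact absurd hz ((ClSubLib.notMem_support_iff_isZero _ z).2
      ((DerSch.stalkFunctor X z).map_isZero ((DerivedCategory.homologyFunctor _ i).map_isZero h)))
  · by_contra hzZ
    refine (ClSubLib.notMem_support_iff_isZero _ z).2 ?_ hz
    exact ((DerivedCategory.HomologySequence.exact₂ T hT i).map (DerSch.stalkFunctor X z)).isZero_of_both_zeros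
      (((ClSubLib.notMem_support_iff_isZero _ z).1 fun h => hzZ (h₁.2.1 i h)).eq_of_src _ _)
      (((ClSubLib.notMem_support_iff_isZero _ z).1 fun h => hzZ (h₃.2.1 i h)).eq_of_tgt _ _)
  · obtain ⟨l, u, hb⟩ := h₁.2.2
    obtain ⟨l', u', hb'⟩ := h₃.2.2
    exact ⟨min l l', max u u', fun i hi => (DerivedCategory.HomologySequence.exact₂ T hT i).isZero_of_both_zeros
      ((hb i (by lia)).eq_of_src _ _) ((hb' i (by lia)).eq_of_tgt _ _)⟩

theorem bc_restrict {U : Scheme.{u}} (j : U ⟶ X) [IsOpenImmersion j] [IsLocallyNoetherian X] {Z : Set X}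
    {E : DCoh.D X} (h : BC Z E) : BC (j.base ⁻¹' Z) ((RD j).obj E) := by
  refine ⟨fun i => K0Coh.isCoh_of_iso (PerfGen.hdRD j E i).symm ?_, fun i => ?_, ?_⟩
  · exact ⟨QC.isQCoh_restrict j (h.1 i).1, QC.isFT_restrict j (h.1 i).2⟩
  · rw [PerfGen.support_HD_RD]; exact Set.preimage_mono (h.2.1 i)
  · obtain ⟨l, u, hb⟩ := h.2.2
    exact ⟨l, u, fun i hi => ((Scheme.Modules.restrictFunctor j).map_isZero (hb i hi)).of_iso (PerfGen.hdRD j E i)⟩

theorem bc_of_local [IsLocallyNoetherian X] [CompactSpace X] {Z : Set X} {E : DCoh.D X}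
    (h : ∀ x : X, ∃ W : X.Opens, x ∈ W ∧ BC (W.ι.base ⁻¹' Z) ((RD W.ι).obj E)) : BC Z E := by
  choose W hxW hW using h
  have hcoh : ∀ i, Coh.IsCoh (DCoh.HD E i) := fun i => K0Coh.isCoh_of_local fun x =>
    ⟨W x, hxW x, K0Coh.isCoh_of_iso (PerfGen.hdRD (W x).ι E i) ((hW x).1 i)⟩
  refine ⟨hcoh, fun i z hz => ?_, ?_⟩
  · have h2 := (hW z).2.1 i
    rw [PerfGen.support_HD_RD] at h2
    exact h2 (show (⟨z, hxW z⟩ : (W z : Scheme.{u})) ∈ _ from hz)
  · choose l u hlu using fun x => (hW x).2.2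
    obtain ⟨t, ht⟩ := isCompact_univ.elim_finite_subcover (fun x => (W x : Set X)) (fun x => (W x).2)
      fun x _ => Set.mem_iUnion.2 ⟨x, hxW x⟩
    obtain ⟨L, hL⟩ := (t.image l).bddBelow
    obtain ⟨R, hR⟩ := (t.image u).bddAbove
    refine ⟨L, R, fun i hi => ?_⟩
    refine KFlat.isZero_of_stalks _ fun z => (ClSubLib.notMem_support_iff_isZero _ z).1 fun hz => ?_
    obtain ⟨x, hxt, hzx⟩ := Set.mem_iUnion₂.1 (ht (Set.mem_univ z))
    have h0 : IsZero (DCoh.HD ((RD (W x).ι).obj E) i) := hlu x i (by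
      rcases hi with hi | hi
      · exact Or.inl (hi.trans_le (hL (Finset.mem_image_of_mem l hxt)))
      · exact Or.inr ((hR (Finset.mem_image_of_mem u hxt)).trans_lt hi))
    have h1 : (⟨z, hzx⟩ : (W x : Scheme.{u})) ∈ CohB1.support (DCoh.HD ((RD (W x).ι).obj E) i) := by
      rw [PerfGen.support_HD_RD]; exact hz
    exact (ClSubLib.notMem_support_iff_isZero _ _).2 ((DerSch.stalkFunctor _ _).map_isZero h0) h1

/-- **Perfect tensor bounded coherent.** -/
theorem bc_lTensorCx [IsLocallyNoetherian X] [CompactSpace X] {Z : Set X} (M : CochainComplex X.Modules ℤ)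
    (hM : BC Z (DCoh.toD X M)) [DCoh.HasLTensorCx M] {K : DCoh.D X} (hK : DCoh.IsPerfect K) :
    BC Z ((DCoh.LTensorCx M).obj K) := by
  obtain ⟨P, hP, -, ⟨e⟩⟩ := KFlat.exists_isKFlat_rep K
  let T := (DCoh.tensorCx.obj P).obj M
  refine (stable_BC Z).iso ((KFlat.ltIso M hP).symm ≪≫ (DCoh.LTensorCx M).mapIso e) (bc_of_local fun x => ?_)
  obtain ⟨V, hV, E, hE, ⟨a⟩⟩ := (DerPerf.isPerfect_iff_rep e).1 hK x
  obtain ⟨⟨c, d, hcd⟩, hl⟩ := id hE
  obtain ⟨W', hW', hfree⟩ := DerPerf.exists_common_free (Finset.Icc c d) E.X (fun i _ => hl i)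
    (⟨x, hV⟩ : ↑(V : Scheme.{u}))
  let W : X.Opens := V.ι ''ᵁ W'
  have hle : W ≤ V := by
    rintro _ ⟨w, -, rfl⟩
    exact w.2
  have hpre : (X.homOfLE hle).opensRange ≤ W' := by
    rintro _ ⟨w, rfl⟩
    obtain ⟨v, hv, hvw⟩ := w.2
    have : V.ι.base ((X.homOfLE hle).base w) = V.ι.base v := by
      rw [← Scheme.Hom.comp_apply, Scheme.homOfLE_ι]
      exact hvw.symm
    rwa [V.ι.isOpenEmbedding.injective this]
  let R := (Scheme.Modules.pullback W.ι).mapHomologicalComplex (ComplexShape.up ℤ)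
  let j := X.homOfLE hle
  let Rle := (Scheme.Modules.pullback j).mapHomologicalComplex (ComplexShape.up ℤ)
  haveI := KFlat.hasLpull j
  let i₁ := Functor.isoWhiskerRight (Scheme.Modules.restrictFunctorIsoPullback V.ι)
      (Scheme.Modules.pullback j) ≪≫ DerPerf.pullLeIso hle
  let a' : DerivedCategory.Q.obj (R.obj P) ≅ DerivedCategory.Q.obj (Rle.obj E) :=
    DerivedCategory.Q.mapIso (HomologicalComplex.Hom.isoOfComponents (fun n => i₁.app (P.X n))
        (fun p q _ => (i₁.hom.naturality (P.d p q)).symm) : Rle.obj ((DCoh.restrictCx V).obj P) ≅ R.obj P).symm ≪≫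
      (KFlat.lpullIso j (DerPerf.isKFlat_restrictCx V hP)).symm ≪≫ (DCoh.Lpull j).mapIso a ≪≫
      KFlat.lpullIso j (DerPerf.isKFlat_of_isStrictlyPerfect hE)
  have hE₁ : DCoh.IsStrictlyPerfect (Rle.obj E) := DerPerf.isStrictlyPerfect_pullback _ hE
  have hP' : DCoh.IsKFlat (R.obj P) := KFlat.isKFlat_pullback W.ι hP
  haveI := KFlat.hasLTensorCx (R.obj M)
  let i₀ : ∀ F : CochainComplex X.Modules ℤ, (DCoh.restrictCx W).obj F ≅ R.obj F := fun F =>
    HomologicalComplex.Hom.isoOfComponents (fun n => (Scheme.Modules.restrictFunctorIsoPullback W.ι).app (F.X n))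
      (fun p q _ => ((Scheme.Modules.restrictFunctorIsoPullback W.ι).hom.naturality (F.d p q)).symm)
  have hst := stable_BC (X := (W : Scheme.{u})) (W.ι.base ⁻¹' Z)
  have hMW : BC (W.ι.base ⁻¹' Z) (DerivedCategory.Q.obj (R.obj M)) :=
    hst.iso (rdIso W.ι M ≪≫ DerivedCategory.Q.mapIso (i₀ M)) (bc_restrict W.ι hM)
  have hmod : ∀ i, TGMod (R.obj M) (BC (W.ι.base ⁻¹' Z)) ((Rle.obj E).X i) := fun i => by
    by_cases h : c ≤ i ∧ i ≤ d
    · obtain ⟨n, ⟨g⟩⟩ := hfree i (Finset.mem_Icc.2 ⟨h.1, h.2⟩)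
      let k := IsOpenImmersion.lift W'.ι j (by rw [Scheme.Opens.range_ι]; exact fun _ h => hpre h)
      exact tgMod_of_iso hst ((Scheme.Modules.pullbackCongr (IsOpenImmersion.lift_fac W'.ι j _)).symm.app (E.X i) ≪≫
        (Scheme.Modules.pullbackComp k W'.ι).symm.app (E.X i) ≪≫ (Scheme.Modules.pullback k).mapIso g ≪≫
        DerPerf.pullFreeIso k n).symm (tgMod_free hst hMW n)
    · exact tgMod_of_isZero hst ((Scheme.Modules.pullback j).map_isZero (hcd i (by lia)))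
  have h1 : TG (R.obj M) (BC (W.ι.base ⁻¹' Z)) (Rle.obj E) :=
    tg_of_bounded hst (d + 1 - c).toNat c _
      (fun i hi => (Scheme.Modules.pullback j).map_isZero (hcd i (by lia))) hmod
  refine ⟨W, ⟨⟨x, hV⟩, hW', rfl⟩, hst.iso (?_ ≪≫ (rdIso W.ι T).symm) h1⟩
  exact DerivedCategory.Q.mapIso (KFlat.swapIso (KFlat.braid _) (R.obj M) (Rle.obj E)) ≪≫
    (KFlat.ltIso (R.obj M) (DerPerf.isKFlat_of_isStrictlyPerfect hE₁)).symm ≪≫
    (DCoh.LTensorCx (R.obj M)).mapIso a'.symm ≪≫ KFlat.ltIso (R.obj M) hP' ≪≫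
    DerivedCategory.Q.mapIso (KFlat.pullTotIso W.ι P M ≪≫ (i₀ T).symm)

/-- **Fourier–Mukai transforms with regular source.** -/
theorem isCohD_transform_regular {W S : Scheme.{u}} [IsNoetherian S] [IsLocallyNoetherian X]
    (hreg : ∀ x : X, IsRegularLocalRing (X.presheaf.stalk x)) (p : W ⟶ X) (q : W ⟶ S)
    [LocallyOfFiniteType q] [QuasiCompact q] [DCoh.HasRpush q] [DCoh.HasLpull p]
    (K : CochainComplex W.Modules ℤ) (hKc : DCoh.IsCohD (DCoh.toD W K)) (kl ku : ℤ)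
    [(DCoh.toD W K).IsGE kl] [(DCoh.toD W K).IsLE ku]
    (hsupp : ∀ i, ClSub.IsProperOver q (CohB1.support (DCoh.HD (DCoh.toD W K) i))) [DCoh.HasLTensorCx K]
    (M : DCoh.D X) (hM : DCoh.IsCohD M) (m n : ℤ) [M.IsGE m] [M.IsLE n] :
    DCoh.IsCohD ((DCoh.Rpush q).obj ((DCoh.LTensorCx K).obj ((DCoh.Lpull p).obj M))) ∧
      ∃ m' n' : ℤ, DerivedCategory.IsGE ((DCoh.Rpush q).obj ((DCoh.LTensorCx K).obj ((DCoh.Lpull p).obj M))) m' ∧
        DerivedCategory.IsLE ((DCoh.Rpush q).obj ((DCoh.LTensorCx K).obj ((DCoh.Lpull p).obj M))) n' := by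
  haveI : IsLocallyNoetherian W := LocallyOfFiniteType.isLocallyNoetherian q
  haveI : CompactSpace W := QuasiCompact.compactSpace_of_compactSpace q
  have hP : DCoh.IsPerfect ((DCoh.Lpull p).obj M) :=
    DerPerf.isPerfect_Lpull _ M (K0Coh.isPerfect_of_bounded_coh hreg hM ⟨m, n, inferInstance, inferInstance⟩)
  let Z : Set W := ⋃ i : Finset.Icc kl ku, CohB1.support (DCoh.HD (DCoh.toD W K) i.1)
  have hZ : ClSub.IsProperOver q Z := ClSubLib.isProperOver_iUnion q _ _ fun i => hsupp i.1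
  have hKbd : ∀ i, (i < kl ∨ ku < i) → IsZero (DCoh.HD (DCoh.toD W K) i) := fun i hi => by
    rcases hi with hi | hi
    · exact DerivedCategory.isZero_of_isGE _ kl i hi
    · exact DerivedCategory.isZero_of_isLE _ ku i hi
  have hBK : BC Z (DCoh.toD W K) := ⟨hKc, fun i z hz => by
    by_cases hi : kl ≤ i ∧ i ≤ ku
    · exact Set.mem_iUnion.2 ⟨⟨i, Finset.mem_Icc.2 hi⟩, hz⟩
    · exact absurd hz ((ClSubLib.notMem_support_iff_isZero _ z).2
        ((DerSch.stalkFunctor W z).map_isZero (hKbd i (by lia)))), kl, ku, hKbd⟩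
  obtain ⟨hcoh, hsub, l, u, hlu⟩ := bc_lTensorCx K hBK hP
  let E := (DCoh.LTensorCx K).obj ((DCoh.Lpull p).obj M)
  have hH : ∀ i, CohProperPush.cohProper q (DCoh.HD E i) := fun i =>
    ⟨hcoh i, ClSubLib.mono hZ (haveI := (hcoh i).1; QC.isClosed_support (hcoh i).2) (hsub i)⟩
  have hge : E.IsGE l := (DerivedCategory.isGE_iff _ _).2 fun i hi => hlu i (Or.inl hi)
  haveI := hge
  have hle : E.IsLE (l + ((u + 1 - l).toNat : ℤ) - 1) :=
    (DerivedCategory.isLE_iff _ _).2 fun i hi => hlu i (Or.inr (by omega))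
  obtain ⟨b, hb⟩ := CohProperPush.exists_isLE q (u + 1 - l).toNat E l hge hle hH
  exact ⟨CohProperPush.main q E l (fun i => (hH i).1) fun i => (hH i).2, l, b, DQPush.isGE_rpush q E l, hb⟩

end Global

end Groth.Agent.FMPerf
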